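import Cfsg.Agent.SteinbergSL.Pres
import Cfsg.Agent.Classical.LinearMove

/-!
Rank one blocks of `SL(n, F)`, stabilisers of basis vectors and moves onto a coordinate plane.
-/

set_option autoImplicit false

open Matrix
open scoped commutatorElement MatrixGroups

namespace Cfsg.Agent.CurtisTitsA

universe u

variable {F : Type u} [Field F] {n : ℕ}

/-- The tautological system of transvections. -/
def taut : SLMult.Sys (MonoidHom.id (SpecialLinearGroup (Fin n) F)) where
  X := SLMult.tx
  map h a := SLMult.tx_eq h a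
  add h := SLMult.tx_add h
  comm := SLMult.tx_comm
  rel := SLMult.tx_rel

theorem taut_inj (g : SpecialLinearGroup (Fin n) F) (h : (MonoidHom.id _) g = 1) : g = 1 := h

theorem act_eq (g : SpecialLinearGroup (Fin n) F) (v : Fin n → F) :
    SLMult.Sys.act (MonoidHom.id _) g v = g.1 *ᵥ v := rfl

theorem taut_top : (taut (F := F) (n := n)).E Finset.univ = ⊤ :=
  Classical.sl_eq_top_of_transvection _ fun i j h c => by
    have := (taut (F := F) (n := n)).X_mem_E (Finset.mem_univ i) (Finset.mem_univ j) h c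
    rw [show (taut (F := F) (n := n)).X i j c = SLMult.tx i j c from rfl, SLMult.tx_eq h] at this
    exact this

variable [Fintype F]

/-- The rank one isomorphism. -/
noncomputable def blockEquiv {a b : Fin n} (h : a ≠ b) :
    (taut (F := F) (n := n)).E {a, b} ≃* SL(2, F) :=
  MulEquiv.ofBijective (SLMult.blockHom taut h)
    ⟨(MonoidHom.ker_eq_bot_iff _).1 ((Subgroup.eq_bot_iff_forall _).2 fun x hx =>
      Subtype.ext (taut_inj (x : SpecialLinearGroup (Fin n) F)
        ((SLMult.blockHom_eq_one taut h x).1 hx))),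
    SLMult.blockHom_surjective taut h⟩

/-- `SL(2, F)` on the coordinates `a, b`. -/
noncomputable def emb {a b : Fin n} (h : a ≠ b) : SL(2, F) →* SpecialLinearGroup (Fin n) F :=
  (Subgroup.subtype _).comp (blockEquiv h).symm.toMonoidHom

theorem emb_injective {a b : Fin n} (h : a ≠ b) : Function.Injective (emb (F := F) h) :=
  Subtype.val_injective.comp (blockEquiv h).symm.injective

theorem emb_mem {a b : Fin n} (h : a ≠ b) (g : SL(2, F)) :
    emb h g ∈ (taut (F := F) (n := n)).E {a, b} := ((blockEquiv h).symm g).2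

theorem emb_block {a b : Fin n} (h : a ≠ b) (g : SL(2, F)) :
    SLMult.blockMat (MonoidHom.id _) a b (emb h g) = g.1 := by
  have := (blockEquiv h).apply_symm_apply g
  exact congrArg Subtype.val this

theorem emb_eq_iff {a b : Fin n} (h : a ≠ b) {g : SL(2, F)} {x : SpecialLinearGroup (Fin n) F}
    (hx : x ∈ (taut (F := F) (n := n)).E {a, b})
    (hb : SLMult.blockMat (MonoidHom.id _) a b x = g.1) : emb h g = x := by
  have hh : blockEquiv h ⟨x, hx⟩ = g := Subtype.ext hb
  rw [← hh]
  show (((blockEquiv h).symm (blockEquiv h ⟨x, hx⟩) : _) : SpecialLinearGroup (Fin n) F) = x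
  rw [MulEquiv.symm_apply_apply]

theorem emb_act {a b : Fin n} (h : a ≠ b) (g : SL(2, F)) (v : Fin n → F) :
    ((emb h g).1 *ᵥ v) a = g.1 0 0 * v a + g.1 0 1 * v b ∧
    ((emb h g).1 *ᵥ v) b = g.1 1 0 * v a + g.1 1 1 * v b ∧
    ∀ r, r ≠ a → r ≠ b → ((emb h g).1 *ᵥ v) r = v r := by
  have hsupp := (taut (F := F) (n := n)).supp (emb_mem h g)
  have hb := emb_block h g
  have hrow : ∀ r, (r = a ∨ r = b) → ((emb h g).1 *ᵥ v) r =
      (emb h g).1 r a * v a + (emb h g).1 r b * v b := by
    intro r hr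
    simp only [Matrix.mulVec, dotProduct]
    refine Finset.sum_eq_add a b h (fun c _ hc => ?_) (by simp) (by simp)
    have := congrFun (hsupp.2 c (by simp [hc.1, hc.2])) r
    rw [act_eq, Matrix.mulVec_single_one] at this
    rw [show (emb h g).1 r c = (Pi.single c (1 : F) : Fin n → F) r from this]
    rcases hr with rfl | rfl
    · simp [Ne.symm hc.1]
    · simp [Ne.symm hc.2]
  have e : ∀ r c, SLMult.Sys.act (MonoidHom.id _) (emb h g) (SLMult.Sys.e c) r = (emb h g).1 r c :=
    fun r c => by rw [act_eq, Matrix.mulVec_single_one]; rfl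
  refine ⟨?_, ?_, fun r hra hrb => hsupp.1 r (by simp [hra, hrb]) v⟩
  · rw [hrow a (Or.inl rfl), ← hb]; simp [SLMult.blockMat, e]
  · rw [hrow b (Or.inr rfl), ← hb]; simp [SLMult.blockMat, e]

theorem emb_tx01 {a b : Fin n} (h : a ≠ b) (c : F) :
    emb h (SLMult.tx 0 1 c) = SLMult.tx a b c := by
  refine emb_eq_iff h ((taut (F := F) (n := n)).X_mem_E (by simp) (by simp) h c) ?_
  rw [SLMult.blockMat, SLMult.tx_eq (by decide : (0 : Fin 2) ≠ 1), Matrix.SpecialLinearGroup.transvection_coe]
  have hv : ∀ w, SLMult.Sys.act (MonoidHom.id _) (SLMult.tx a b c) w = w + Pi.single a (c * w b) :=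
    fun w => (taut (F := F) (n := n)).act_X h c w
  ext u v
  fin_cases u <;> fin_cases v <;> simp [hv, h, h.symm]

theorem emb_tx10 {a b : Fin n} (h : a ≠ b) (c : F) :
    emb h (SLMult.tx 1 0 c) = SLMult.tx b a c := by
  refine emb_eq_iff h ((taut (F := F) (n := n)).X_mem_E (by simp) (by simp) h.symm c) ?_
  rw [SLMult.blockMat, SLMult.tx_eq (by decide : (1 : Fin 2) ≠ 0), Matrix.SpecialLinearGroup.transvection_coe]
  have hv : ∀ w, SLMult.Sys.act (MonoidHom.id _) (SLMult.tx b a c) w = w + Pi.single b (c * w a) :=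
    fun w => (taut (F := F) (n := n)).act_X h.symm c w
  ext u v
  fin_cases u <;> fin_cases v <;> simp [hv, h, h.symm]

omit [Fintype F] in
theorem hom_ext2 {G : Type*} [Group G] {f g : SL(2, F) →* G}
    (h1 : ∀ c, f (SLMult.tx 0 1 c) = g (SLMult.tx 0 1 c))
    (h2 : ∀ c, f (SLMult.tx 1 0 c) = g (SLMult.tx 1 0 c)) : f = g := by
  refine MonoidHom.eq_of_eqOn_top fun x hx => ?_
  suffices hle : (⊤ : Subgroup (SL(2, F))) ≤ f.eqLocus g from hle hx
  rw [← Classical.sl_eq_top_of_transvection (f.eqLocus g) fun i j hij c => ?_]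
  show f _ = g _
  rw [← SLMult.tx_eq hij]
  fin_cases i <;> fin_cases j
  · exact absurd rfl hij
  · exact h1 c
  · exact h2 c
  · exact absurd rfl hij

omit [Fintype F] in
theorem hom_extN {G : Type*} [Group G] {f g : SpecialLinearGroup (Fin n) F →* G}
    (h : ∀ i j, i ≠ j → ∀ c, f (SLMult.tx i j c) = g (SLMult.tx i j c)) : f = g := by
  refine MonoidHom.eq_of_eqOn_top fun x hx => ?_
  suffices hle : (⊤ : Subgroup (SpecialLinearGroup (Fin n) F)) ≤ f.eqLocus g from hle hx
  rw [← Classical.sl_eq_top_of_transvection (f.eqLocus g) fun i j hij c => ?_]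
  show f _ = g _
  rw [← SLMult.tx_eq hij]
  exact h i j hij c

/-- Elements fixing a basis vector lie in the subgroup of transvections avoiding that column. -/
theorem fix_mem {k : Fin n} (hn : 2 ≤ n) (H : Subgroup (SpecialLinearGroup (Fin n) F))
    (hH : ∀ i j, i ≠ j → j ≠ k → ∀ a, SLMult.tx i j a ∈ H)
    {g : SpecialLinearGroup (Fin n) F} (hg : g.1 *ᵥ Pi.single k 1 = Pi.single k 1) : g ∈ H := by
  have : Nontrivial (Fin n) := Fin.nontrivial_iff_two_le.2 hn
  obtain ⟨m, hm⟩ := exists_ne k
  have hgT : g ∈ (taut (F := F) (n := n)).E Finset.univ := by rw [taut_top]; exact Subgroup.mem_top g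
  have hP := (taut (F := F) (n := n)).stab (T := Finset.univ) (Finset.mem_univ k) (Finset.mem_univ m)
    hm (fun x _ h => h) hgT (by rw [act_eq]; exact hg)
  refine (sup_le ?_ ?_ : (taut (F := F) (n := n)).P Finset.univ k ≤ H) hP
  · refine (Subgroup.closure_le _).2 ?_
    rintro _ ⟨i, -, j, hj, hij, a, rfl⟩
    exact hH i j hij (Finset.ne_of_mem_erase hj) a
  · refine (Subgroup.closure_le _).2 ?_
    rintro _ ⟨j, hj, a, rfl⟩
    exact hH k j (Finset.ne_of_mem_erase hj).symm (Finset.ne_of_mem_erase hj) a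

omit [Fintype F] in
theorem exists_plane {k1 k0 : Fin n} (hk : k1 ≠ k0) (v w : Fin n → F) :
    ∃ (g : SpecialLinearGroup (Fin n) F) (x y x' y' : F),
      v = g.1 *ᵥ (Pi.single k1 x + Pi.single k0 y) ∧
      w = g.1 *ᵥ (Pi.single k1 x' + Pi.single k0 y') := by
  let U := Submodule.span F ({v, w} : Set (Fin n → F))
  classical
  have hd : Module.finrank F U ≤ 2 := by
    refine (finrank_span_le_card _).trans ?_
    rw [Set.toFinset_insert, Set.toFinset_singleton]
    exact Finset.card_le_two
  have hind : LinearIndependent F ![(Pi.single k1 1 : Fin n → F), Pi.single k0 1] := by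
    rw [LinearIndependent.pair_iff]
    intro s t hst
    have h1 := congrFun hst k1
    have h2 := congrFun hst k0
    simp [hk, hk.symm] at h1 h2
    exact ⟨h1, h2⟩
  let S : Fin (Module.finrank F U) → (Fin n → F) :=
    fun i => ![(Pi.single k1 1 : Fin n → F), Pi.single k0 1] (Fin.castLE hd i)
  have hS : LinearIndependent F S := hind.comp _ (Fin.castLE_injective hd)
  obtain ⟨g, hg⟩ := Classical.exists_sl_map (Submodule.span F (Set.range S)) U
    (by rw [finrank_span_eq_card hS, Fintype.card_fin])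
  have key : ∀ u ∈ U, ∃ x y, u = g.1 *ᵥ (Pi.single k1 x + Pi.single k0 y) := by
    intro u hu
    rw [← hg] at hu
    obtain ⟨z, hz, rfl⟩ := hu
    have hz' : z ∈ Submodule.span F ({Pi.single k1 1, Pi.single k0 1} : Set (Fin n → F)) := by
      refine Submodule.span_mono ?_ hz
      rintro _ ⟨i, rfl⟩
      show ![(Pi.single k1 1 : Fin n → F), Pi.single k0 1] (Fin.castLE hd i) ∈ _
      generalize Fin.castLE hd i = t
      fin_cases t <;> simp
    obtain ⟨x, y, rfl⟩ := Submodule.mem_span_pair.1 hz'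
    refine ⟨x, y, ?_⟩
    rw [show x • (Pi.single k1 1 : Fin n → F) + y • Pi.single k0 1 = Pi.single k1 x + Pi.single k0 y by
      rw [← Pi.single_smul, ← Pi.single_smul, smul_eq_mul, smul_eq_mul, mul_one, mul_one]]
    rfl
  obtain ⟨x, y, hv⟩ := key v (Submodule.subset_span (by simp))
  obtain ⟨x', y', hw⟩ := key w (Submodule.subset_span (by simp))
  exact ⟨g, x, y, x', y', hv, hw⟩

end Cfsg.Agent.CurtisTitsA
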